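import Cfsg.Agent.Lib.ToddCox.HeC0.P0
import Cfsg.Agent.Lib.ToddCox.HeC0.P1
import Cfsg.Agent.Lib.ToddCox.HeC0.P2
import Cfsg.Agent.Lib.ToddCox.HeC0.P3
import Cfsg.Agent.Lib.ToddCox.HeC0.P4
import Cfsg.Agent.Lib.ToddCox.HeC0.P5
import Cfsg.Agent.Lib.ToddCox.HeC0.P6
set_option autoImplicit false
set_option maxRecDepth 100000
namespace Cfsg.Agent.Lib.ToddCox.HeC0
theorem covered : Covered Eo inv W isH 268985 944066 := (Covered.trans (Covered.trans (Covered.trans (Covered.trans (Covered.trans (Covered.trans (Covered.trans (Covered.trans c0 c1) (Covered.trans c2 (Covered.trans c3 c4))) (Covered.trans (Covered.trans c5 c6) (Covered.trans c7 (Covered.trans c8 c9)))) (Covered.trans (Covered.trans (Covered.trans c10 c11) (Covered.trans c12 (Covered.trans c13 c14))) (Covered.trans (Covered.trans c15 c16) (Covered.trans c17 (Covered.trans c18 c19))))) (Covered.trans (Covered.trans (Covered.trans (Covered.trans c20 c21) (Covered.trans c22 (Covered.trans c23 c24))) (Covered.trans (Covered.trans c25 c26) (Covered.trans c27 (Covered.trans c28 c29)))) (Covered.trans (Covered.trans (Covered.trans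 c30 c31) (Covered.trans c32 (Covered.trans c33 c34))) (Covered.trans (Covered.trans c35 (Covered.trans c36 c37)) (Covered.trans c38 (Covered.trans c39 c40)))))) (Covered.trans (Covered.trans (Covered.trans (Covered.trans (Covered.trans c41 c42) (Covered.trans c43 (Covered.trans c44 c45))) (Covered.trans (Covered.trans c46 c47) (Covered.trans c48 (Covered.trans c49 c50)))) (Covered.trans (Covered.trans (Covered.trans c51 c52) (Covered.trans c53 (Covered.trans c54 c55))) (Covered.trans (Covered.trans c56 c57) (Covered.trans c58 (Covered.trans c59 c60))))) (Covered.trans (Covered.trans (Covered.trans (Covered.trans c61 c62) (Covered.trans c63 (Covered.trans c64 c65))) (Covered.trans (Covered.trans c66 c67) (Covered.trans c68 (Covered.trans c69 c70)))) (Covered.trans (Covered.trans (Covered.trans c71 c72) (Covered.trans c73 (Covered.trans c74 c75))) (Covered.trans (Covered.trans c76 (Covered.trans c77 c78)) (Covered.trans c79 (Covered.trans c80 c81))))))) (Covered.trans (Covered.trans (Covered.trans (Covered.trans (Covered.trans (Covered.trans c82 c83) (Covered.trans c84 (Covered.trans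 c85 c86))) (Covered.trans (Covered.trans c87 c88) (Covered.trans c89 (Covered.trans c90 c91)))) (Covered.trans (Covered.trans (Covered.trans c92 c93) (Covered.trans c94 (Covered.trans c95 c96))) (Covered.trans (Covered.trans c97 c98) (Covered.trans c99 (Covered.trans c100 c101))))) (Covered.trans (Covered.trans (Covered.trans (Covered.trans c102 c103) (Covered.trans c104 (Covered.trans c105 c106))) (Covered.trans (Covered.trans c107 c108) (Covered.trans c109 (Covered.trans c110 c111)))) (Covered.trans (Covered.trans (Covered.trans c112 c113) (Covered.trans c114 (Covered.trans c115 c116))) (Covered.trans (Covered.trans c117 (Covered.trans c118 c119)) (Covered.trans c120 (Covered.trans c121 c122)))))) (Covered.trans (Covered.trans (Covered.trans (Covered.trans (Covered.trans c123 c124) (Covered.trans c125 (Covered.trans c126 c127))) (Covered.trans (Covered.trans c128 c129) (Covered.trans c130 (Covered.trans c131 c132)))) (Covered.trans (Covered.trans (Covered.trans c133 c134) (Covered.trans c135 (Covered.trans c136 c137))) (Covered.trans (Covered.trans c138 (Covered.trans c139 c140))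 (Covered.trans c141 (Covered.trans c142 c143))))) (Covered.trans (Covered.trans (Covered.trans (Covered.trans c144 c145) (Covered.trans c146 (Covered.trans c147 c148))) (Covered.trans (Covered.trans c149 c150) (Covered.trans c151 (Covered.trans c152 c153)))) (Covered.trans (Covered.trans (Covered.trans c154 c155) (Covered.trans c156 (Covered.trans c157 c158))) (Covered.trans (Covered.trans c159 (Covered.trans c160 c161)) (Covered.trans c162 (Covered.trans c163 c164)))))))) (Covered.trans (Covered.trans (Covered.trans (Covered.trans (Covered.trans (Covered.trans (Covered.trans c165 c166) (Covered.trans c167 (Covered.trans c168 c169))) (Covered.trans (Covered.trans c170 c171) (Covered.trans c172 (Covered.trans c173 c174)))) (Covered.trans (Covered.trans (Covered.trans c175 c176) (Covered.trans c177 (Covered.trans c178 c179))) (Covered.trans (Covered.trans c180 c181) (Covered.trans c182 (Covered.trans c183 c184))))) (Covered.trans (Covered.trans (Covered.trans (Covered.trans c185 c186) (Covered.trans c187 (Covered.trans c188 c189))) (Covered.trans (Covered.trans c190 c191) (Covered.trans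 c192 (Covered.trans c193 c194)))) (Covered.trans (Covered.trans (Covered.trans c195 c196) (Covered.trans c197 (Covered.trans c198 c199))) (Covered.trans (Covered.trans c200 (Covered.trans c201 c202)) (Covered.trans c203 (Covered.trans c204 c205)))))) (Covered.trans (Covered.trans (Covered.trans (Covered.trans (Covered.trans c206 c207) (Covered.trans c208 (Covered.trans c209 c210))) (Covered.trans (Covered.trans c211 c212) (Covered.trans c213 (Covered.trans c214 c215)))) (Covered.trans (Covered.trans (Covered.trans c216 c217) (Covered.trans c218 (Covered.trans c219 c220))) (Covered.trans (Covered.trans c221 (Covered.trans c222 c223)) (Covered.trans c224 (Covered.trans c225 c226))))) (Covered.trans (Covered.trans (Covered.trans (Covered.trans c227 c228) (Covered.trans c229 (Covered.trans c230 c231))) (Covered.trans (Covered.trans c232 c233) (Covered.trans c234 (Covered.trans c235 c236)))) (Covered.trans (Covered.trans (Covered.trans c237 c238) (Covered.trans c239 (Covered.trans c240 c241))) (Covered.trans (Covered.trans c242 (Covered.trans c243 c244)) (Covered.trans c245 (Covered.trans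 c246 c247))))))) (Covered.trans (Covered.trans (Covered.trans (Covered.trans (Covered.trans (Covered.trans c248 c249) (Covered.trans c250 (Covered.trans c251 c252))) (Covered.trans (Covered.trans c253 c254) (Covered.trans c255 (Covered.trans c256 c257)))) (Covered.trans (Covered.trans (Covered.trans c258 c259) (Covered.trans c260 (Covered.trans c261 c262))) (Covered.trans (Covered.trans c263 c264) (Covered.trans c265 (Covered.trans c266 c267))))) (Covered.trans (Covered.trans (Covered.trans (Covered.trans c268 c269) (Covered.trans c270 (Covered.trans c271 c272))) (Covered.trans (Covered.trans c273 c274) (Covered.trans c275 (Covered.trans c276 c277)))) (Covered.trans (Covered.trans (Covered.trans c278 c279) (Covered.trans c280 (Covered.trans c281 c282))) (Covered.trans (Covered.trans c283 (Covered.trans c284 c285)) (Covered.trans c286 (Covered.trans c287 c288)))))) (Covered.trans (Covered.trans (Covered.trans (Covered.trans (Covered.trans c289 c290) (Covered.trans c291 (Covered.trans c292 c293))) (Covered.trans (Covered.trans c294 c295) (Covered.trans c296 (Covered.trans c297 c298))))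 (Covered.trans (Covered.trans (Covered.trans c299 c300) (Covered.trans c301 (Covered.trans c302 c303))) (Covered.trans (Covered.trans c304 (Covered.trans c305 c306)) (Covered.trans c307 (Covered.trans c308 c309))))) (Covered.trans (Covered.trans (Covered.trans (Covered.trans c310 c311) (Covered.trans c312 (Covered.trans c313 c314))) (Covered.trans (Covered.trans c315 c316) (Covered.trans c317 (Covered.trans c318 c319)))) (Covered.trans (Covered.trans (Covered.trans c320 c321) (Covered.trans c322 (Covered.trans c323 c324))) (Covered.trans (Covered.trans c325 (Covered.trans c326 c327)) (Covered.trans c328 (Covered.trans c329 c330)))))))))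
theorem links : LinksOK Eo cF (2 * nEv) N ys 0 266560 := (LinksOK.trans (LinksOK.trans (LinksOK.trans (LinksOK.trans (LinksOK.trans (LinksOK.trans (LinksOK.trans (LinksOK.trans k0 k1) (LinksOK.trans k2 k3)) (LinksOK.trans (LinksOK.trans k4 k5) (LinksOK.trans k6 k7))) (LinksOK.trans (LinksOK.trans (LinksOK.trans k8 k9) (LinksOK.trans k10 k11)) (LinksOK.trans (LinksOK.trans k12 k13) (LinksOK.trans k14 k15)))) (LinksOK.trans (LinksOK.trans (LinksOK.trans (LinksOK.trans k16 k17) (LinksOK.trans k18 k19)) (LinksOK.trans (LinksOK.trans k20 k21) (LinksOK.trans k22 k23))) (LinksOK.trans (LinksOK.trans (LinksOK.trans k24 k25) (LinksOK.trans k26 k27)) (LinksOK.trans (LinksOK.trans k28 k29) (LinksOK.trans k30 k31))))) (LinksOK.trans (LinksOK.trans (LinksOK.trans (LinksOK.trans (LinksOK.trans k32 k33) (LinksOK.trans k34 k35)) (LinksOK.trans (LinksOK.trans k36 k37) (LinksOK.trans k38 k39))) (LinksOK.trans (LinksOK.trans (LinksOK.trans k40 k41) (LinksOK.trans k42 k43)) (LinksOK.trans (LinksOK.trans k44 k45) (LinksOK.trans k46 k47)))) (LinksOK.trans (LinksOK.trans (LinksOK.trans (LinksOK.trans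 k48 k49) (LinksOK.trans k50 k51)) (LinksOK.trans (LinksOK.trans k52 k53) (LinksOK.trans k54 k55))) (LinksOK.trans (LinksOK.trans (LinksOK.trans k56 k57) (LinksOK.trans k58 k59)) (LinksOK.trans (LinksOK.trans k60 k61) (LinksOK.trans k62 (LinksOK.trans k63 k64))))))) (LinksOK.trans (LinksOK.trans (LinksOK.trans (LinksOK.trans (LinksOK.trans (LinksOK.trans k65 k66) (LinksOK.trans k67 k68)) (LinksOK.trans (LinksOK.trans k69 k70) (LinksOK.trans k71 k72))) (LinksOK.trans (LinksOK.trans (LinksOK.trans k73 k74) (LinksOK.trans k75 k76)) (LinksOK.trans (LinksOK.trans k77 k78) (LinksOK.trans k79 k80)))) (LinksOK.trans (LinksOK.trans (LinksOK.trans (LinksOK.trans k81 k82) (LinksOK.trans k83 k84)) (LinksOK.trans (LinksOK.trans k85 k86) (LinksOK.trans k87 k88))) (LinksOK.trans (LinksOK.trans (LinksOK.trans k89 k90) (LinksOK.trans k91 k92)) (LinksOK.trans (LinksOK.trans k93 k94) (LinksOK.trans k95 k96))))) (LinksOK.trans (LinksOK.trans (LinksOK.trans (LinksOK.trans (LinksOK.trans k97 k98) (LinksOK.trans k99 k100)) (LinksOK.trans (LinksOK.trans k101 k102) (LinksOK.trans k103 k104))) (LinksOK.trans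 (LinksOK.trans (LinksOK.trans k105 k106) (LinksOK.trans k107 k108)) (LinksOK.trans (LinksOK.trans k109 k110) (LinksOK.trans k111 k112)))) (LinksOK.trans (LinksOK.trans (LinksOK.trans (LinksOK.trans k113 k114) (LinksOK.trans k115 k116)) (LinksOK.trans (LinksOK.trans k117 k118) (LinksOK.trans k119 k120))) (LinksOK.trans (LinksOK.trans (LinksOK.trans k121 k122) (LinksOK.trans k123 k124)) (LinksOK.trans (LinksOK.trans k125 k126) (LinksOK.trans k127 (LinksOK.trans k128 k129)))))))) (LinksOK.trans (LinksOK.trans (LinksOK.trans (LinksOK.trans (LinksOK.trans (LinksOK.trans (LinksOK.trans k130 k131) (LinksOK.trans k132 k133)) (LinksOK.trans (LinksOK.trans k134 k135) (LinksOK.trans k136 k137))) (LinksOK.trans (LinksOK.trans (LinksOK.trans k138 k139) (LinksOK.trans k140 k141)) (LinksOK.trans (LinksOK.trans k142 k143) (LinksOK.trans k144 k145)))) (LinksOK.trans (LinksOK.trans (LinksOK.trans (LinksOK.trans k146 k147) (LinksOK.trans k148 k149)) (LinksOK.trans (LinksOK.trans k150 k151) (LinksOK.trans k152 k153))) (LinksOK.trans (LinksOK.trans (LinksOK.trans k154 k155) (LinksOK.trans k156 k157))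 (LinksOK.trans (LinksOK.trans k158 k159) (LinksOK.trans k160 k161))))) (LinksOK.trans (LinksOK.trans (LinksOK.trans (LinksOK.trans (LinksOK.trans k162 k163) (LinksOK.trans k164 k165)) (LinksOK.trans (LinksOK.trans k166 k167) (LinksOK.trans k168 k169))) (LinksOK.trans (LinksOK.trans (LinksOK.trans k170 k171) (LinksOK.trans k172 k173)) (LinksOK.trans (LinksOK.trans k174 k175) (LinksOK.trans k176 k177)))) (LinksOK.trans (LinksOK.trans (LinksOK.trans (LinksOK.trans k178 k179) (LinksOK.trans k180 k181)) (LinksOK.trans (LinksOK.trans k182 k183) (LinksOK.trans k184 k185))) (LinksOK.trans (LinksOK.trans (LinksOK.trans k186 k187) (LinksOK.trans k188 k189)) (LinksOK.trans (LinksOK.trans k190 k191) (LinksOK.trans k192 (LinksOK.trans k193 k194))))))) (LinksOK.trans (LinksOK.trans (LinksOK.trans (LinksOK.trans (LinksOK.trans (LinksOK.trans k195 k196) (LinksOK.trans k197 k198)) (LinksOK.trans (LinksOK.trans k199 k200) (LinksOK.trans k201 k202))) (LinksOK.trans (LinksOK.trans (LinksOK.trans k203 k204) (LinksOK.trans k205 k206)) (LinksOK.trans (LinksOK.trans k207 k208) (LinksOK.trans k209 k210))))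 (LinksOK.trans (LinksOK.trans (LinksOK.trans (LinksOK.trans k211 k212) (LinksOK.trans k213 k214)) (LinksOK.trans (LinksOK.trans k215 k216) (LinksOK.trans k217 k218))) (LinksOK.trans (LinksOK.trans (LinksOK.trans k219 k220) (LinksOK.trans k221 k222)) (LinksOK.trans (LinksOK.trans k223 k224) (LinksOK.trans k225 (LinksOK.trans k226 k227)))))) (LinksOK.trans (LinksOK.trans (LinksOK.trans (LinksOK.trans (LinksOK.trans k228 k229) (LinksOK.trans k230 k231)) (LinksOK.trans (LinksOK.trans k232 k233) (LinksOK.trans k234 k235))) (LinksOK.trans (LinksOK.trans (LinksOK.trans k236 k237) (LinksOK.trans k238 k239)) (LinksOK.trans (LinksOK.trans k240 k241) (LinksOK.trans k242 k243)))) (LinksOK.trans (LinksOK.trans (LinksOK.trans (LinksOK.trans k244 k245) (LinksOK.trans k246 k247)) (LinksOK.trans (LinksOK.trans k248 k249) (LinksOK.trans k250 k251))) (LinksOK.trans (LinksOK.trans (LinksOK.trans k252 k253) (LinksOK.trans k254 k255)) (LinksOK.trans (LinksOK.trans k256 k257) (LinksOK.trans k258 (LinksOK.trans k259 k260)))))))))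
theorem defs : ∀ c, c < nDef → chkDef Eo inv c = true := defs_of_bits 268985 13 33 (by norm_num) (by
  intro j hj
  interval_cases j
  · exact d0
  · exact d1
  · exact d2
  · exact d3
  · exact d4
  · exact d5
  · exact d6
  · exact d7
  · exact d8
  · exact d9
  · exact d10
  · exact d11
  · exact d12
  · exact d13
  · exact d14
  · exact d15
  · exact d16
  · exact d17
  · exact d18
  · exact d19
  · exact d20
  · exact d21
  · exact d22
  · exact d23
  · exact d24
  · exact d25
  · exact d26
  · exact d27
  · exact d28
  · exact d29
  · exact d30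
  · exact d31
  · exact d32
  )
theorem words : ∀ j, j < nW → wordsOK W (relR Rb inv) inv sp j = true := allBelow_spec (by norm_num [nW]) wordsGood
end Cfsg.Agent.Lib.ToddCox.HeC0
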